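import Groth.Agent.Picfga.CurveP1
import Groth.Agent.EtpbcA.P1Charts
import Groth.Agent.Ega4late.H542.GlueSup

/-!
# A smooth proper curve over a field is finite over the projective line

`exists_finite : Curve.IsSmoothProperCurve k C f → ∃ h : C ⟶ P^1_k, IsFinite h` (and `h` is over `k`:
`exists_finite_over`).
-/

set_option autoImplicit false
set_option backward.isDefEq.respectTransparency.types false

universe u

open CategoryTheory CategoryTheory.Limits AlgebraicGeometry TopologicalSpace Opposite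

namespace Groth.Agent.Sga5.H644.ToP1

open Groth.Agent.Picfga.RegLocus Groth.Agent.CycB.P1Chart Groth.Agent.EtpbcA.P1Charts
open Groth.Agent.Fdesc.LocGen

variable {A : CommRingCat.{u}} {X : Scheme.{u}} (f : X ⟶ Spec A)

/-- The morphism `U ⟶ P^1_A` given by `t` in the chart `i`. -/
noncomputable def cm (i : Fin (1 + 1)) (U : X.Opens) (t : Γ(X, U)) : (U : Scheme.{u}) ⟶ PP A :=
  toA1 f U t ≫ chart i A

theorem cm_toB (i : Fin (1 + 1)) (U : X.Opens) (t : Γ(X, U)) : cm f i U t ≫ toB A = U.ι ≫ f := by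
  rw [cm, Category.assoc, chart_toB, pr, toA1_C]

theorem homOfLE_toA1 {U W : X.Opens} (h : W ≤ U) (t : Γ(X, U)) :
    X.homOfLE h ≫ toA1 f U t = toA1 f W (X.presheaf.map (homOfLE h).op t) := by
  have h1 : evalHom f U t ≫ X.presheaf.map (homOfLE h).op =
      evalHom f W (X.presheaf.map (homOfLE h).op t) := by
    apply CommRingCat.hom_ext
    apply Polynomial.ringHom_ext
    · intro a
      change (X.presheaf.map (homOfLE h).op) ((evalHom f U t) (Polynomial.C a)) =
        (evalHom f W (X.presheaf.map (homOfLE h).op t)) (Polynomial.C a)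
      have h2 : (evalHom f U t) (Polynomial.C a) = coeffHom f U a := by
        change Polynomial.eval₂ _ _ (Polynomial.C a) = _
        simp
      have h3 : (evalHom f W (X.presheaf.map (homOfLE h).op t)) (Polynomial.C a) = coeffHom f W a := by
        change Polynomial.eval₂ _ _ (Polynomial.C a) = _
        simp
      rw [h2, h3]
      have h4 : coeffHom f U ≫ X.presheaf.map (homOfLE h).op = coeffHom f W := by
        rw [coeffHom, coeffHom, Category.assoc, Scheme.Hom.appLE_map]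
      exact congr($h4 a)
    · change (X.presheaf.map (homOfLE h).op) ((evalHom f U t) Polynomial.X) =
        (evalHom f W (X.presheaf.map (homOfLE h).op t)) Polynomial.X
      have h2 : (evalHom f U t) Polynomial.X = t := by
        change Polynomial.eval₂ _ _ Polynomial.X = _
        simp
      have h3 : (evalHom f W (X.presheaf.map (homOfLE h).op t)) Polynomial.X =
          X.presheaf.map (homOfLE h).op t := by
        change Polynomial.eval₂ _ _ Polynomial.X = _
        simp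
      rw [h2, h3]
  rw [toA1, toA1, ← h1, Spec.map_comp, Scheme.Opens.toSpecΓ_SpecMap_presheaf_map_assoc]

theorem homOfLE_cm (i : Fin (1 + 1)) {U W : X.Opens} (h : W ≤ U) (t : Γ(X, U)) :
    X.homOfLE h ≫ cm f i U t = cm f i W (X.presheaf.map (homOfLE h).op t) := by
  rw [cm, cm, ← Category.assoc, homOfLE_toA1]

theorem cm_eq_pt (i : Fin (1 + 1)) (U : X.Opens) (t : Γ(X, U)) :
    cm f i U t = U.toSpecΓ ≫ pt (B := Γ(X, U)) i (Spec.map (coeffHom f U)) t := by
  rw [cm, toA1, Category.assoc, chart, map_pt]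
  congr 2
  · rw [pr, ← Spec.map_comp, C_evalHom]
  · change Polynomial.eval₂ _ _ Polynomial.X = _
    simp

theorem cm_inv (i : Fin (1 + 1)) (U : X.Opens) {s t : Γ(X, U)} (h : s * t = 1) :
    cm f i U s = cm f (i + 1) U t := by
  rw [cm_eq_pt, cm_eq_pt, pt_inv i _ h]

/-- Glueing of two charts. -/
theorem exists_glue {U₀ U₁ : X.Opens} (hsup : U₀ ⊔ U₁ = ⊤) (t₀ : Γ(X, U₀)) (t₁ : Γ(X, U₁))
    (hmul : ores (inf_le_left : U₀ ⊓ U₁ ≤ U₀) t₀ * ores (inf_le_right : U₀ ⊓ U₁ ≤ U₁) t₁ = 1) :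
    ∃ h : X ⟶ PP A, h ≫ toB A = f ∧ U₀.ι ≫ h = cm f 0 U₀ t₀ ∧ U₁.ι ≫ h = cm f 1 U₁ t₁ := by
  obtain ⟨k, hk0, hk1⟩ := Groth.Agent.Ega4late.H542.GlueSup.exists_glue_sup U₀ U₁ (cm f 0 U₀ t₀)
    (cm f 1 U₁ t₁) (by
      rw [homOfLE_cm, homOfLE_cm]
      exact cm_inv f 0 _ hmul)
  let e : X ⟶ ((U₀ ⊔ U₁ : X.Opens) : Scheme.{u}) := X.topIso.inv ≫ (X.isoOfEq hsup.symm).hom
  have he : e ≫ (U₀ ⊔ U₁ : X.Opens).ι = 𝟙 X := by
    simp [e]
  have he0 : U₀.ι ≫ e = X.homOfLE (le_sup_left : U₀ ≤ U₀ ⊔ U₁) := by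
    rw [← cancel_mono (U₀ ⊔ U₁ : X.Opens).ι, Category.assoc, he, Category.comp_id, Scheme.homOfLE_ι]
  have he1 : U₁.ι ≫ e = X.homOfLE (le_sup_right : U₁ ≤ U₀ ⊔ U₁) := by
    rw [← cancel_mono (U₀ ⊔ U₁ : X.Opens).ι, Category.assoc, he, Category.comp_id, Scheme.homOfLE_ι]
  have h0 : U₀.ι ≫ e ≫ k = cm f 0 U₀ t₀ := by rw [← Category.assoc, he0, hk0]
  have h1 : U₁.ι ≫ e ≫ k = cm f 1 U₁ t₁ := by rw [← Category.assoc, he1, hk1]
  refine ⟨e ≫ k, ?_, h0, h1⟩
  -- check on the two opens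
  have h2 : k ≫ toB A = (U₀ ⊔ U₁ : X.Opens).ι ≫ f := by
    apply Groth.Agent.Ega4late.H542.GlueSup.hom_ext_sup
    · rw [← Category.assoc, hk0, cm_toB, ← Category.assoc, Scheme.homOfLE_ι]
    · rw [← Category.assoc, hk1, cm_toB, ← Category.assoc, Scheme.homOfLE_ι]
  rw [Category.assoc, h2, ← Category.assoc, he, Category.id_comp]

theorem isFinite_toA1 {U : X.Opens} (hU : IsAffineOpen U) (t : Γ(X, U))
    (h : (evalHom f U t).hom.Finite) : IsFinite (toA1 f U t) := by
  have h1 : IsIso U.toSpecΓ := by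
    rw [← hU.isoSpec_hom]; infer_instance
  rw [toA1, MorphismProperty.cancel_left_of_respectsIso @IsFinite]
  exact (IsFinite.SpecMap_iff _).mpr h

/-- A smooth proper curve over a field is finite over the projective line. -/
theorem exists_finite_over (k : Type u) [Field k] {C : Scheme.{u}}
    (f : C ⟶ Spec (CommRingCat.of k)) (hX : Curve.IsSmoothProperCurve k C f) :
    ∃ h : C ⟶ CohB1.ProjSpaceOver 1 (Spec (CommRingCat.of k)),
      IsFinite h ∧ h ≫ CohB1.ProjSpaceOver.toBase 1 (Spec (CommRingCat.of k)) = f := by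
  obtain ⟨P⟩ := Groth.Agent.Picfga.CurveP1.exists_p1Data hX
  obtain ⟨hp, -, -, -⟩ := hX
  obtain ⟨h, hf, h0, h1⟩ := exists_glue (A := CommRingCat.of k) f P.sup P.t₀ P.t₁ P.mul
  refine ⟨h, ?_, hf⟩
  have hsep : IsProper (toB (CommRingCat.of k)) := Groth.Agent.Dix.ProjProper.isProper_toBase 1 _
  have hp' : IsProper (h ≫ toB (CommRingCat.of k)) := by
    rw [hf]; exact hp
  have hpr : IsProper h := IsProper.of_comp h (toB (CommRingCat.of k))
  have k0 : IsFinite (toA1 f P.U₀ P.t₀) := isFinite_toA1 f P.affine₀ _ P.finite₀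
  have k1 : IsFinite (toA1 f P.U₁ P.t₁) := isFinite_toA1 f P.affine₁ _ P.finite₁
  have l0 : LocallyQuasiFinite (P.U₀.ι ≫ h) := by
    rw [h0, cm]; infer_instance
  have l1 : LocallyQuasiFinite (P.U₁.ι ≫ h) := by
    rw [h1, cm]; infer_instance
  have hq : LocallyQuasiFinite h := by
    rw [IsZariskiLocalAtSource.iff_of_openCover (P := @LocallyQuasiFinite)
      (Groth.Agent.Ega4late.H542.GlueSup.cov P.U₀.ι P.U₁.ι (fun x => by
        have hx : x ∈ P.U₀ ⊔ P.U₁ := by rw [P.sup]; trivial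
        rcases hx with hx | hx
        · exact Or.inl ⟨⟨x, hx⟩, rfl⟩
        · exact Or.inr ⟨⟨x, hx⟩, rfl⟩))]
    rintro (_ | _)
    · exact l0
    · exact l1
  exact IsFinite.of_isProper_of_locallyQuasiFinite _

/-- A smooth proper curve over a field is finite over the projective line. -/
theorem exists_finite (k : Type u) [Field k] {C : Scheme.{u}}
    (f : C ⟶ Spec (CommRingCat.of k)) (hX : Curve.IsSmoothProperCurve k C f) :
    ∃ h : C ⟶ CohB1.ProjSpaceOver 1 (Spec (CommRingCat.of k)), IsFinite h := by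
  obtain ⟨h, hh, -⟩ := exists_finite_over k f hX
  exact ⟨h, hh⟩

end Groth.Agent.Sga5.H644.ToP1
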